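import Mathlib

namespace Groth.Agent.H8.NormDVR
open IsLocalRing

theorem isDVR_of_principal (R : Type*) [CommRing R] [IsNoetherianRing R] [IsLocalRing R]
    (π : R) (hspan : maximalIdeal R = Ideal.span {π}) (hreg : ∀ r, π * r = 0 → r = 0) :
    ∃ _ : IsDomain R, IsDiscreteValuationRing R := by
  classical
  have hpow : ∀ (n : ℕ) (r : R), π ^ n * r = 0 → r = 0 := by
    intro n
    induction n with
    | zero => intro r hr; simpa using hr
    | succ n ih =>
      intro r hr
      apply hreg
      apply ih
      rw [← hr]; ring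
  have hπ0 : π ≠ 0 := by
    intro h
    have := hreg 1 (by rw [h, zero_mul])
    exact one_ne_zero this
  have hmpow : ∀ n : ℕ, maximalIdeal R ^ n = Ideal.span {π ^ n} := by
    intro n; rw [hspan, Ideal.span_singleton_pow]
  have key : ∀ a : R, a ≠ 0 → ∃ (n : ℕ) (u : R), IsUnit u ∧ a = π ^ n * u := by
    intro a ha
    have hbot : ⨅ i : ℕ, maximalIdeal R ^ i = ⊥ :=
      Ideal.iInf_pow_eq_bot_of_isLocalRing _ (Ideal.IsPrime.ne_top inferInstance)
    have hex : ∃ i : ℕ, a ∉ maximalIdeal R ^ i := by
      by_contra h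
      push_neg at h
      apply ha
      have : a ∈ ⨅ i : ℕ, maximalIdeal R ^ i := (Submodule.mem_iInf _).mpr h
      rw [hbot] at this
      simpa using this
    have hi : a ∉ maximalIdeal R ^ (Nat.find hex) := Nat.find_spec hex
    have hi0 : Nat.find hex ≠ 0 := by
      intro h0
      apply hi
      rw [h0, pow_zero, Ideal.one_eq_top]; trivial
    obtain ⟨j, hj⟩ := Nat.exists_eq_succ_of_ne_zero hi0
    have haj : a ∈ maximalIdeal R ^ j := by
      by_contra h
      exact Nat.find_min hex (by omega : j < Nat.find hex) h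
    rw [hmpow, Ideal.mem_span_singleton'] at haj
    obtain ⟨u, hu⟩ := haj
    refine ⟨j, u, ?_, by rw [← hu, mul_comm]⟩
    by_contra hnu
    have hum : u ∈ maximalIdeal R := (mem_maximalIdeal u).mpr hnu
    apply hi
    rw [hj, Nat.succ_eq_add_one, pow_succ, ← hu, mul_comm u (π ^ j)]
    exact Ideal.mul_mem_mul (by rw [hmpow]; exact Ideal.mem_span_singleton_self _) hum
  have hnzd : ∀ a b : R, a * b = 0 → a = 0 ∨ b = 0 := by
    intro a b hab
    by_contra h
    push_neg at h
    obtain ⟨n, u, hu, rfl⟩ := key a h.1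
    obtain ⟨k, v, hv, rfl⟩ := key b h.2
    have : π ^ (n + k) * (u * v) = 0 := by rw [← hab]; ring
    have huv := hpow _ _ this
    exact (hu.mul hv).ne_zero huv
  haveI : NoZeroDivisors R := { eq_zero_or_eq_zero_of_mul_eq_zero := fun {a b} h => hnzd a b h }
  haveI : IsDomain R := NoZeroDivisors.to_isDomain R
  refine ⟨inferInstance, ?_⟩
  have hnf : ¬ IsField R := by
    rw [IsLocalRing.isField_iff_maximalIdeal_eq]
    intro h
    apply hπ0
    have : π ∈ maximalIdeal R := by rw [hspan]; exact Ideal.mem_span_singleton_self π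
    rw [h] at this
    simpa using this
  have hprinc : (maximalIdeal R).IsPrincipal := ⟨⟨π, hspan⟩⟩
  exact ((IsDiscreteValuationRing.TFAE R hnf).out 0 4).mpr hprinc

theorem isDVR_of_unit_ext (R T : Type*) [CommRing R] [CommRing T] [IsNoetherianRing R]
    [IsLocalRing R] [Algebra R T] (hinj : Function.Injective (algebraMap R T))
    (hic : ∀ z : T, IsIntegral R z → z ∈ (algebraMap R T).range)
    (t : R) (ht : t ∈ maximalIdeal R) (hrad : maximalIdeal R ≤ (Ideal.span {t}).radical)
    (hu : IsUnit (algebraMap R T t)) :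
    ∃ _ : IsDomain R, IsDiscreteValuationRing R := by
  classical
  obtain ⟨ti, hti⟩ := hu.exists_right_inv
  have hex : ∃ k, maximalIdeal R ^ k ≤ Ideal.span {t} :=
    Ideal.exists_pow_le_of_le_radical_of_fg hrad (IsNoetherian.noetherian (maximalIdeal R))
  have hk : maximalIdeal R ^ (Nat.find hex) ≤ Ideal.span {t} := Nat.find_spec hex
  have hk0 : Nat.find hex ≠ 0 := by
    intro h0
    rw [h0, pow_zero, Ideal.one_eq_top, top_le_iff, Ideal.span_singleton_eq_top] at hk
    exact (mem_maximalIdeal t).mp ht hk
  obtain ⟨k', hk'⟩ := Nat.exists_eq_succ_of_ne_zero hk0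
  have hk'not : ¬ maximalIdeal R ^ k' ≤ Ideal.span {t} := Nat.find_min hex (by omega)
  obtain ⟨y, hym, hyt⟩ := SetLike.not_le_iff_exists.mp hk'not
  have hya : ∀ a ∈ maximalIdeal R, y * a ∈ Ideal.span {t} := fun a ha =>
    hk (by rw [hk', Nat.succ_eq_add_one, pow_succ]; exact Ideal.mul_mem_mul hym ha)
  by_cases hcase : ∃ a ∈ maximalIdeal R, ∃ c, y * a = t * c ∧ c ∉ maximalIdeal R
  · obtain ⟨a, ham, c, hc, hcm⟩ := hcase
    have hcu : IsUnit c := by
      rwa [mem_maximalIdeal, mem_nonunits_iff, not_not] at hcm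
    obtain ⟨c', hc'⟩ := hcu.exists_right_inv
    have hπm : a * c' ∈ maximalIdeal R := Ideal.mul_mem_right _ _ ham
    have hyπ : y * (a * c') = t := by
      calc y * (a * c') = (y * a) * c' := by ring
        _ = t * c * c' := by rw [hc]
        _ = t := by rw [mul_assoc, hc', mul_one]
    have hyu : IsUnit (algebraMap R T y) := by
      have : IsUnit (algebraMap R T y * algebraMap R T (a * c')) := by
        rw [← map_mul, hyπ]; exact hu
      exact isUnit_of_mul_isUnit_left this
    have hπu : IsUnit (algebraMap R T (a * c')) := by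
      have : IsUnit (algebraMap R T y * algebraMap R T (a * c')) := by
        rw [← map_mul, hyπ]; exact hu
      exact isUnit_of_mul_isUnit_right this
    have hspan : maximalIdeal R = Ideal.span {a * c'} := by
      apply le_antisymm
      · intro a' ha'
        obtain ⟨c'', hc''⟩ := Ideal.mem_span_singleton'.mp (hya a' ha')
        rw [Ideal.mem_span_singleton']
        refine ⟨c'', hinj (hyu.mul_left_cancel ?_)⟩
        rw [← map_mul, ← map_mul]
        congr 1
        calc y * (c'' * (a * c')) = c'' * (y * (a * c')) := by ring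
          _ = c'' * t := by rw [hyπ]
          _ = y * a' := hc''
      · rw [Ideal.span_singleton_le_iff_mem]; exact hπm
    have hπreg : ∀ r : R, (a * c') * r = 0 → r = 0 := by
      intro r hr
      apply hinj
      rw [map_zero]
      have : algebraMap R T (a * c') * algebraMap R T r = 0 := by rw [← map_mul, hr, map_zero]
      exact (hπu.mul_right_eq_zero).mp this
    exact isDVR_of_principal R (a * c') hspan hπreg
  · exfalso
    push_neg at hcase
    have hz : ∀ a ∈ maximalIdeal R, ∃ c ∈ maximalIdeal R,
        (algebraMap R T y * ti) * algebraMap R T a = algebraMap R T c := by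
      intro a ha
      obtain ⟨c, hc⟩ := Ideal.mem_span_singleton'.mp (hya a ha)
      refine ⟨c, hcase a ha c (by rw [← hc, mul_comm]), ?_⟩
      calc (algebraMap R T y * ti) * algebraMap R T a = algebraMap R T (y * a) * ti := by
            rw [map_mul]; ring
        _ = algebraMap R T (c * t) * ti := by rw [hc]
        _ = algebraMap R T c * (algebraMap R T t * ti) := by rw [map_mul]; ring
        _ = algebraMap R T c := by rw [hti, mul_one]
    have hzint : IsIntegral R (algebraMap R T y * ti) := by
      let N : Submodule R T := Submodule.map (Algebra.linearMap R T) (maximalIdeal R)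
      have hNfg : N.FG := (IsNoetherian.noetherian (maximalIdeal R)).map _
      have hzN : ∀ n ∈ N, (algebraMap R T y * ti) * n ∈ N := by
        rintro _ ⟨a, ha, rfl⟩
        obtain ⟨c, hc, hzc⟩ := hz a ha
        exact ⟨c, hc, hzc.symm⟩
      have hpowN : ∀ i : ℕ, (algebraMap R T y * ti) ^ i * algebraMap R T t ∈ N := by
        intro i
        induction i with
        | zero => rw [pow_zero, one_mul]; exact ⟨t, ht, rfl⟩
        | succ i ih =>
          have := hzN _ ih
          rwa [← mul_assoc, ← pow_succ'] at this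
      let N' : Submodule R T := Submodule.map (LinearMap.mulLeft R ti) N
      have hN'fg : N'.FG := hNfg.map _
      have hpowN' : ∀ i : ℕ, (algebraMap R T y * ti) ^ i ∈ N' := by
        intro i
        refine ⟨(algebraMap R T y * ti) ^ i * algebraMap R T t, hpowN i, ?_⟩
        rw [LinearMap.mulLeft_apply]
        calc ti * ((algebraMap R T y * ti) ^ i * algebraMap R T t)
            = (algebraMap R T y * ti) ^ i * (algebraMap R T t * ti) := by ring
          _ = (algebraMap R T y * ti) ^ i := by rw [hti, mul_one]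
      haveI : IsNoetherian R N' := isNoetherian_of_fg_of_noetherian N' hN'fg
      have hle : Subalgebra.toSubmodule (Algebra.adjoin R {algebraMap R T y * ti}) ≤ N' := by
        rw [Algebra.adjoin_eq_span, Submodule.span_le]
        intro w hw
        rw [SetLike.mem_coe, ← Submonoid.powers_eq_closure] at hw
        obtain ⟨i, rfl⟩ := hw
        exact hpowN' i
      exact IsIntegral.of_mem_of_fg (Algebra.adjoin R {algebraMap R T y * ti})
        (isNoetherian_submodule.mp ‹_› _ hle) _ (Algebra.self_mem_adjoin_singleton R _)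
    obtain ⟨r, hr⟩ := hic _ hzint
    apply hyt
    rw [Ideal.mem_span_singleton']
    refine ⟨r, hinj ?_⟩
    rw [map_mul, hr, mul_assoc, mul_comm ti, hti, mul_one]

theorem mem_range_of_isIntegral_localization
    {A B R T : Type*} [CommRing A] [CommRing B] [CommRing R] [CommRing T]
    [Algebra A B] [Algebra A R] [Algebra B T] [Algebra R T] [Algebra A T]
    [IsScalarTower A R T] [IsScalarTower A B T]
    (M : Submonoid A) [IsLocalization M R] [IsLocalization (Algebra.algebraMapSubmonoid B M) T]
    (hic : ∀ b : B, IsIntegral A b → b ∈ (algebraMap A B).range)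
    (z : T) (hz : IsIntegral R z) : z ∈ (algebraMap R T).range := by
  obtain ⟨⟨m₂, hm₂⟩, h2⟩ := IsIntegral.exists_multiple_integral_of_isLocalization M z hz
  obtain ⟨⟨β, ⟨_, m₁, hm₁, rfl⟩⟩, e⟩ := IsLocalization.surj (Algebra.algebraMapSubmonoid B M) z
  simp only [Submonoid.smul_def, Algebra.smul_def] at h2
  simp only [← IsScalarTower.algebraMap_apply] at e
  have h2' : IsIntegral A (algebraMap B T (m₂ • β)) := by
    have : algebraMap B T (m₂ • β) = (algebraMap A T m₂ * z) * algebraMap A T m₁ := by
      rw [Algebra.smul_def, map_mul, ← IsScalarTower.algebraMap_apply, ← e]; ring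
    rw [this]
    exact h2.mul isIntegral_algebraMap
  obtain ⟨m₃, hm₃, h3⟩ := IsLocalization.exists_isIntegral_smul_of_isIntegral_map (Sₘ := T) M h2'
  obtain ⟨a, ha⟩ := hic _ h3
  have hmem : m₁ * m₂ * m₃ ∈ M := mul_mem (mul_mem hm₁ hm₂) hm₃
  have hu : IsUnit (algebraMap A T (m₁ * m₂ * m₃)) := by
    rw [IsScalarTower.algebraMap_apply A B T]
    exact IsLocalization.map_units T
      (⟨algebraMap A B (m₁ * m₂ * m₃), Algebra.mem_algebraMapSubmonoid_of_mem ⟨_, hmem⟩⟩ :
        Algebra.algebraMapSubmonoid B M)
  refine ⟨IsLocalization.mk' R a ⟨m₁ * m₂ * m₃, hmem⟩, hu.mul_right_cancel ?_⟩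
  rw [IsScalarTower.algebraMap_apply A R T (m₁ * m₂ * m₃), ← map_mul]
  have := IsLocalization.mk'_spec R a (⟨m₁ * m₂ * m₃, hmem⟩ : M)
  simp only at this
  rw [this, ← IsScalarTower.algebraMap_apply, IsScalarTower.algebraMap_apply A B T a, ha,
    Algebra.smul_def, Algebra.smul_def, map_mul, map_mul, ← IsScalarTower.algebraMap_apply,
    ← IsScalarTower.algebraMap_apply, ← e, ← IsScalarTower.algebraMap_apply, map_mul, map_mul]
  ring

theorem exists_param (A : Type*) [CommRing A] [IsNoetherianRing A] (p : Ideal A) [p.IsPrime]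
    (hht : p.height = 1) :
    ∃ t ∈ p, ∀ q : Ideal A, q.IsPrime → q ≤ p → t ∈ q → q = p := by
  classical
  have hfin : (minimalPrimes A).Finite := minimalPrimes.finite_of_isNoetherianRing A
  have hpmin : p ∉ minimalPrimes A := by
    intro h
    rw [← Ideal.height_eq_zero_iff, hht] at h
    exact one_ne_zero h
  have hnot : ¬ ((p : Set A) ⊆ ⋃ Q ∈ (hfin.toFinset : Set (Ideal A)), (Q : Set A)) := by
    intro hsub
    have hprime : ∀ Q ∈ hfin.toFinset, Q ≠ (⊥ : Ideal A) → Q ≠ (⊥ : Ideal A) →
        Ideal.IsPrime ((fun Q : Ideal A => Q) Q) := by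
      intro Q hQ _ _
      rw [Set.Finite.mem_toFinset] at hQ
      exact hQ.1.1
    obtain ⟨Q, hQ, hpQ⟩ := (Ideal.subset_union_prime (f := fun Q : Ideal A => Q) ⊥ ⊥ hprime).mp hsub
    rw [Set.Finite.mem_toFinset] at hQ
    have hQp : Q ≤ p := hQ.2 ⟨inferInstance, bot_le⟩ hpQ
    have : p = Q := le_antisymm hpQ hQp
    exact hpmin (this ▸ hQ)
  obtain ⟨t, htp, ht⟩ := Set.not_subset.mp hnot
  refine ⟨t, htp, fun q hq hqp htq => ?_⟩
  by_contra hne
  have hlt : q < p := lt_of_le_of_ne hqp hne
  have h1 : q.height < p.height := Ideal.height_strict_mono_of_isPrime_of_isPrime hlt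
  rw [hht, ENat.lt_one_iff_eq_zero] at h1
  have hqmin : q ∈ minimalPrimes A := Ideal.height_eq_zero_iff.mp h1
  apply ht
  simp only [Set.mem_iUnion]
  exact ⟨q, by simpa using hqmin, htq⟩

/-- Algebraic core of Stacks 0AXP. -/
theorem alg_main (A B R : Type*) [CommRing A] [CommRing B] [CommRing R] [IsNoetherianRing A]
    [Algebra A B] (hinj : Function.Injective (algebraMap A B))
    (hic : ∀ b : B, IsIntegral A b → b ∈ (algebraMap A B).range)
    (p : Ideal A) [p.IsPrime] [Algebra A R] [IsLocalization.AtPrime R p]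
    (t : A) (htp : t ∈ p) (ht : ∀ q : Ideal A, q.IsPrime → q ≤ p → t ∈ q → q = p)
    (b₀ : B) (s₀ : A) (hs₀ : s₀ ∉ p) (hb : algebraMap A B t * b₀ = algebraMap A B s₀) :
    ∃ _ : IsDomain R, IsDiscreteValuationRing R := by
  let T := Localization (Algebra.algebraMapSubmonoid B p.primeCompl)
  letI : Algebra R T := localizationAlgebra p.primeCompl B
  haveI : IsScalarTower A R T := isScalarTower_localizationAlgebra p.primeCompl B
  haveI : IsLocalRing R := IsLocalization.AtPrime.isLocalRing R p
  haveI : IsNoetherianRing R := IsLocalization.isNoetherianRing p.primeCompl R inferInstance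
  have hinjRT : Function.Injective (algebraMap R T) := localizationAlgebra_injective R T hinj
  have hicRT : ∀ z : T, IsIntegral R z → z ∈ (algebraMap R T).range :=
    mem_range_of_isIntegral_localization p.primeCompl hic
  have hτm : algebraMap A R t ∈ maximalIdeal R :=
    (IsLocalization.AtPrime.to_map_mem_maximal_iff R p t).mpr htp
  have hrad : maximalIdeal R ≤ (Ideal.span {algebraMap A R t}).radical := by
    rw [Ideal.radical_eq_sInf]
    refine le_sInf ?_
    rintro Q ⟨hQt, hQp⟩
    have hQle : Q ≤ maximalIdeal R := IsLocalRing.le_maximalIdeal hQp.ne_top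
    have hqp : Q.comap (algebraMap A R) ≤ p := by
      rw [← IsLocalization.AtPrime.under_maximalIdeal R p]
      exact Ideal.comap_mono hQle
    have htq : t ∈ Q.comap (algebraMap A R) :=
      hQt (Ideal.mem_span_singleton_self _)
    have hq : Ideal.under A Q = p := ht _ (Ideal.comap_isPrime _ Q) hqp htq
    rw [← IsLocalization.map_comap p.primeCompl R Q, hq,
      IsLocalization.AtPrime.map_eq_maximalIdeal]
  have hu : IsUnit (algebraMap R T (algebraMap A R t)) := by
    rw [← IsScalarTower.algebraMap_apply, IsScalarTower.algebraMap_apply A B T]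
    have h1 : IsUnit (algebraMap B T (algebraMap A B t) * algebraMap B T b₀) := by
      rw [← map_mul, hb]
      exact IsLocalization.map_units T
        (⟨algebraMap A B s₀, Algebra.mem_algebraMapSubmonoid_of_mem ⟨s₀, hs₀⟩⟩ :
          Algebra.algebraMapSubmonoid B p.primeCompl)
    exact isUnit_of_mul_isUnit_left h1
  exact isDVR_of_unit_ext R T hinjRT hicRT _ hτm hrad hu

end Groth.Agent.H8.NormDVR
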