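import Mathlib
import Groth.Prelude
import Groth.Agent.Lib.Helper8.NormDVR.A
import Groth.Agent.Lib.Helper8.Japanese.NormFin2

namespace Groth.Agent.H8.NormDVR
universe u
open AlgebraicGeometry CategoryTheory Opposite TopologicalSpace

theorem exists_mul_eq_pow_of_basicOpen_le {Y : Scheme.{u}} (W : Y.Opens)
    (hc : IsCompact (W : Set Y)) (hqs : IsQuasiSeparated (W : Set Y)) (s t : Γ(Y, W))
    (h : Y.basicOpen s ≤ Y.basicOpen t) :
    ∃ (n : ℕ) (b : Γ(Y, W)), t * b = s ^ n := by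
  have hu : IsUnit (Y.presheaf.map (homOfLE (Y.basicOpen_le s)).op t) := by
    have h1 : IsUnit (Y.presheaf.map (homOfLE (Y.basicOpen_le t)).op t) :=
      RingedSpace.isUnit_res_basicOpen Y.toRingedSpace t
    have h2 := h1.map (Y.presheaf.map (homOfLE h).op).hom
    rw [← CommRingCat.comp_apply, ← Functor.map_comp] at h2
    exact h2
  obtain ⟨z, hz⟩ := hu.exists_right_inv
  obtain ⟨n, y, hy⟩ := exists_eq_pow_mul_of_isCompact_of_isQuasiSeparated Y W hc hqs s z
  dsimp only [TopCat.Presheaf.restrictOpenCommRingCat_apply] at hy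
  have hres : (t * y) |_ Y.basicOpen s = (s ^ n) |_ Y.basicOpen s := by
    dsimp only [TopCat.Presheaf.restrictOpenCommRingCat_apply]
    rw [map_mul, map_pow, hy]
    calc _ = (Y.presheaf.map (homOfLE (Y.basicOpen_le s)).op s) ^ n *
          (Y.presheaf.map (homOfLE (Y.basicOpen_le s)).op t * z) := by ring
      _ = _ := by rw [hz, mul_one]
  obtain ⟨m, hm⟩ := exists_of_res_eq_of_qcqs hc hqs hres
  exact ⟨m + n, s ^ m * y, by rw [pow_add, ← hm]; ring⟩

theorem main_general {X' Y : Scheme.{u}} (g : Y ⟶ X') (V : X'.Opens) (hV : IsAffineOpen V)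
    (W : Y.Opens) (eW : W = g ⁻¹ᵁ V)
    (hc : IsCompact (W : Set Y)) (hqs : IsQuasiSeparated (W : Set Y))
    [IsNoetherianRing Γ(X', V)]
    (hinj : Function.Injective (g.appLE V W eW.le).hom)
    (hic : ∀ b : Γ(Y, W), (g.appLE V W eW.le).hom.IsIntegralElem b →
      b ∈ (g.appLE V W eW.le).hom.range)
    (x' : X') (hx'V : x' ∈ V) (hx' : ∀ y : Y, g y ≠ x')
    (hdim : ringKrullDim (X'.presheaf.stalk x') = 1) :
    ∃ _ : IsDomain (X'.presheaf.stalk x'), IsDiscreteValuationRing (X'.presheaf.stalk x') := by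
  classical
  let φ : Γ(X', V) →+* Γ(Y, W) := (g.appLE V W eW.le).hom
  let P := hV.primeIdealOf ⟨x', hx'V⟩
  haveI : P.asIdeal.IsPrime := P.isPrime
  letI := X'.presheaf.algebra_section_stalk ⟨x', hx'V⟩
  haveI hloc : IsLocalization.AtPrime (X'.presheaf.stalk x') P.asIdeal :=
    hV.isLocalization_stalk ⟨x', hx'V⟩
  have hht : P.asIdeal.height = 1 := by
    have h1 := IsLocalization.AtPrime.ringKrullDim_eq_height P.asIdeal (X'.presheaf.stalk x')
    rw [hdim] at h1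
    exact_mod_cast h1.symm
  obtain ⟨t, htp, ht⟩ := exists_param Γ(X', V) P.asIdeal hht
  obtain ⟨s, hs, e⟩ := isCompact_iff_finite_and_eq_biUnion_affineOpens.mp hc
  haveI : Finite s := hs.to_subtype
  haveI : Fintype s := Fintype.ofFinite s
  have hle : ∀ j : s, (j.1 : Y.Opens) ≤ W := fun j => by
    rw [e]
    exact le_iSup₂ (f := fun (i : Y.affineOpens) (_ : i ∈ s) => (i : Y.Opens)) j.1 j.2
  have hle' : ∀ j : s, (j.1 : Y.Opens) ≤ g ⁻¹ᵁ V := fun j => (hle j).trans eW.le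
  let ψ : ∀ j : s, Γ(X', V) →+* Γ(Y, j.1) := fun j => (g.appLE V j.1 (hle' j)).hom
  have hψ : ∀ (j : s) (a : Γ(X', V)), ψ j a = Y.presheaf.map (homOfLE (hle j)).op (φ a) := by
    intro j a
    have := g.appLE_map (U := V) (V := W) eW.le (homOfLE (hle j)).op
    exact (congr($(this).hom a)).symm
  have hσ : ∀ j : s, ∃ σ : Γ(X', V), ψ j σ ∈ Ideal.span {ψ j t} ∧ σ ∉ P.asIdeal := by
    intro j
    by_contra hcon
    push_neg at hcon
    have hIle : Ideal.comap (ψ j) (Ideal.span {ψ j t}) ≤ P.asIdeal := fun σ hσ => hcon σ hσ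
    obtain ⟨q, hq, hqp⟩ := Ideal.exists_minimalPrimes_le hIle
    obtain ⟨Q', hQ'prime, hQ't, hQ'q⟩ := Ideal.exists_comap_eq_of_mem_minimalPrimes (ψ j) q hq
    have htq : t ∈ q := by
      rw [← hQ'q]; exact hQ't (Ideal.mem_span_singleton_self _)
    have hqeq : q = P.asIdeal := ht q hq.1.1 hqp htq
    have h1 := IsAffineOpen.SpecMap_appLE_fromSpec g hV j.1.2 (hle' j)
    have h2 : hV.fromSpec (Spec.map (g.appLE V j.1 (hle' j)) ⟨Q', hQ'prime⟩) =
        g (j.1.2.fromSpec ⟨Q', hQ'prime⟩) := by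
      rw [← Scheme.Hom.comp_apply, ← Scheme.Hom.comp_apply, h1]
    have h3 : Spec.map (g.appLE V j.1 (hle' j)) ⟨Q', hQ'prime⟩ = P := by
      apply PrimeSpectrum.ext
      exact hQ'q.trans hqeq
    rw [h3, hV.fromSpec_primeIdealOf ⟨x', hx'V⟩] at h2
    exact hx' _ h2.symm
  choose σ hσI hσp using hσ
  have hs₁p : (∏ j : s, σ j) ∉ P.asIdeal := by
    intro h
    obtain ⟨j, -, hj⟩ := Ideal.IsPrime.prod_mem_iff.mp h
    exact hσp j hj
  have hs₁I : ∀ j : s, ψ j (∏ j : s, σ j) ∈ Ideal.span {ψ j t} := by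
    intro j
    have hdvd : σ j ∣ ∏ j : s, σ j := Finset.dvd_prod_of_mem σ (Finset.mem_univ j)
    exact Ideal.mem_of_dvd _ (map_dvd (ψ j) hdvd) (hσI j)
  have hbo : Y.basicOpen (φ (∏ j : s, σ j)) ≤ Y.basicOpen (φ t) := by
    intro y hy
    have hyW : y ∈ W := Y.basicOpen_le _ hy
    obtain ⟨j, hyj⟩ : ∃ j : s, y ∈ (j.1 : Y.Opens) := by
      rw [e] at hyW
      simp only [Opens.mem_iSup] at hyW
      obtain ⟨i, hi, hyi⟩ := hyW
      exact ⟨⟨i, hi⟩, hyi⟩
    obtain ⟨c, hc⟩ := Ideal.mem_span_singleton'.mp (hs₁I j)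
    have h1 : y ∈ Y.basicOpen (ψ j (∏ j : s, σ j)) := by
      rw [hψ, Scheme.basicOpen_res]; exact ⟨hyj, hy⟩
    rw [← hc, Scheme.basicOpen_mul, hψ j t, Scheme.basicOpen_res] at h1
    exact h1.2.2
  obtain ⟨n, b, hb⟩ := exists_mul_eq_pow_of_basicOpen_le W hc hqs (φ (∏ j : s, σ j)) (φ t) hbo
  letI : Algebra Γ(X', V) Γ(Y, W) := φ.toAlgebra
  refine alg_main Γ(X', V) Γ(Y, W) (X'.presheaf.stalk x') hinj hic P.asIdeal t htp ht b
    ((∏ j : s, σ j) ^ n)
    (fun h => hs₁p (Ideal.IsPrime.mem_of_pow_mem inferInstance n h)) ?_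
  rw [map_pow]; exact hb

theorem s9676 {X Y : Scheme.{u}} (f : Y ⟶ X)
    [LocallyOfFiniteType f] [QuasiCompact f] [QuasiSeparated f] [IsReduced Y]
    (hX : ∀ U : X.affineOpens, CAlg.IsNagata Γ(X, U))
    (x' : ↥f.normalization) (hdim : ringKrullDim (f.normalization.presheaf.stalk x') = 1)
    (hx' : x' ∉ Set.range f.toNormalization.base) :
    ∃ _ : IsDomain (f.normalization.presheaf.stalk x'),
      IsDiscreteValuationRing (f.normalization.presheaf.stalk x') := by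
  obtain ⟨_, ⟨U, hU : IsAffineOpen U, rfl⟩, hxU, -⟩ :=
    X.isBasis_affineOpens.exists_subset_of_mem_open (Set.mem_univ (f.fromNormalization x'))
      isOpen_univ
  have hV : IsAffineOpen (f.fromNormalization ⁻¹ᵁ U) := hU.preimage f.fromNormalization
  have eW : f ⁻¹ᵁ U = f.toNormalization ⁻¹ᵁ (f.fromNormalization ⁻¹ᵁ U) := by
    simp [← Scheme.Hom.comp_preimage]
  have hc : IsCompact (f ⁻¹ᵁ U : Set Y) := f.isCompact_preimage hU.isCompact
  have hqs : IsQuasiSeparated (f ⁻¹ᵁ U : Set Y) := f.isQuasiSeparated_preimage hU.isQuasiSeparated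
  letI := (f.app U).hom.toAlgebra
  have hfin := Jap.NormFin.finite_integralClosure_app f U hU (hX ⟨U, hU⟩)
  haveI : IsNoetherianRing Γ(X, U) := (hX ⟨U, hU⟩).1
  haveI : IsNoetherianRing (integralClosure Γ(X, U) Γ(Y, f ⁻¹ᵁ U)) :=
    IsNoetherianRing.of_finite Γ(X, U) _
  haveI : IsNoetherianRing Γ(f.normalization, f.fromNormalization ⁻¹ᵁ U) :=
    isNoetherianRing_of_ringEquiv _ (f.normalizationObjIso hU).commRingCatIsoToRingEquiv.symm
  have key := f.normalizationObjIso_hom_val hU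
  refine main_general f.toNormalization (f.fromNormalization ⁻¹ᵁ U) hV (f ⁻¹ᵁ U) eW hc hqs ?_ ?_
    x' hxU (fun y hy => hx' ⟨y, hy⟩) hdim
  · rw [← key, CommRingCat.hom_comp, RingHom.coe_comp]
    exact Function.Injective.comp Subtype.val_injective
      (ConcreteCategory.bijective_of_isIso (f.normalizationObjIso hU).hom).1
  · intro b hb
    rw [← key] at hb ⊢
    have hb' : IsIntegral (integralClosure Γ(X, U) Γ(Y, f ⁻¹ᵁ U)) b := by
      obtain ⟨P, hPm, hP⟩ := hb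
      refine ⟨P.map (f.normalizationObjIso hU).hom.hom, hPm.map _, ?_⟩
      rw [Polynomial.eval₂_map]
      exact hP
    have hb'' : IsIntegral Γ(X, U) b := isIntegral_trans b hb'
    refine ⟨(f.normalizationObjIso hU).inv.hom ⟨b, hb''⟩, ?_⟩
    rw [CommRingCat.hom_comp, RingHom.comp_apply]
    have : (f.normalizationObjIso hU).hom.hom ((f.normalizationObjIso hU).inv.hom ⟨b, hb''⟩) =
        ⟨b, hb''⟩ := by
      rw [← RingHom.comp_apply, ← CommRingCat.hom_comp, Iso.inv_hom_id]; rfl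
    rw [this]; rfl

end Groth.Agent.H8.NormDVR
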